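import Groth.Agent.L21.RR.BaseChange
import Groth.Agent.S9777
import Groth.Agent.S0086
import Mathlib.AlgebraicGeometry.Morphisms.LocalFlatDescent
import Mathlib.AlgebraicGeometry.Morphisms.FlatDescent
import Mathlib.AlgebraicGeometry.Geometrically.Connected

/-!
# Families of smooth curves of fixed genus: base change and fppf descent
-/

set_option autoImplicit false
set_option linter.style.haveILetI false
set_option linter.unusedSectionVars false
set_option backward.isDefEq.respectTransparency false
set_option backward.isDefEq.respectTransparency.types false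
set_option synthInstance.maxHeartbeats 400000

universe u

open CategoryTheory CategoryTheory.Limits AlgebraicGeometry

noncomputable section

namespace Groth.L21.CurveDesc

/-- A proper smooth family with geometrically connected fibres of dimension one and genus `g`. -/
structure CurveFam (g : ℕ) {X S : Scheme.{u}} (f : X ⟶ S) : Prop where
  proper : IsProper f
  smooth : Smooth f
  geomConn : GeometricallyConnected f
  dim : ∀ s : S, topologicalKrullDim ↥(f.fiber s) = 1
  genus : ∀ s : S, (letI : (f.fiber s).Over (Spec (S.residueField s)) := ⟨f.fiberToSpecResidueField s⟩;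
    Curv2.genus (S.residueField s) (f.fiber s)) = g

variable {g : ℕ} {X S X' S' : Scheme.{u}} {f : X ⟶ S} {f' : X' ⟶ S'} {i : X' ⟶ X} {s : S' ⟶ S}

/-- The genus of a fibre of a proper morphism does not change under base change. -/
theorem genus_fiber_of_isPullback [IsProper f] (sq : IsPullback i f' f s) (y : S') :
    (letI : (f'.fiber y).Over (Spec (S'.residueField y)) := ⟨f'.fiberToSpecResidueField y⟩;
      Curv2.genus (S'.residueField y) (f'.fiber y)) =
    (letI : (f.fiber (s y)).Over (Spec (S.residueField (s y))) := ⟨f.fiberToSpecResidueField (s y)⟩;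
      Curv2.genus (S.residueField (s y)) (f.fiber (s y))) := by
  let φ := s.residueFieldMap y
  have hu : Spec.map φ ≫ S.fromSpecResidueField (s y) = S'.fromSpecResidueField y ≫ s :=
    s.SpecMap_residueFieldMap_fromSpecResidueField y
  let l : f'.fiber y ⟶ f.fiber (s y) :=
    pullback.lift (f'.fiberι y ≫ i) (f'.fiberToSpecResidueField y ≫ Spec.map φ) (by
      rw [Category.assoc, sq.w, Category.assoc, hu]
      exact pullback.condition_assoc s)
  have sql : IsPullback l (f'.fiberToSpecResidueField y) (f.fiberToSpecResidueField (s y)) (Spec.map φ) := by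
    refine IsPullback.of_right ?_ (pullback.lift_snd _ _ _) (IsPullback.of_hasPullback f _)
    rw [hu, pullback.lift_fst]
    exact (IsPullback.of_hasPullback f' _).paste_horiz sq
  letI : (f'.fiber y).Over (Spec (CommRingCat.of ↑(S'.residueField y))) := ⟨f'.fiberToSpecResidueField y⟩
  letI : (f.fiber (s y)).Over (Spec (CommRingCat.of ↑(S.residueField (s y)))) :=
    ⟨f.fiberToSpecResidueField (s y)⟩
  letI : Algebra ↑(S.residueField (s y)) ↑(S'.residueField y) := φ.hom.toAlgebra
  haveI : IsProper f' := MorphismProperty.of_isPullback (P := @IsProper) sq inferInstance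
  haveI : IsProper (f'.fiber y ↘ Spec (CommRingCat.of ↑(S'.residueField y))) :=
    MorphismProperty.pullback_snd (P := @IsProper) f' _ inferInstance
  haveI : IsProper (f.fiber (s y) ↘ Spec (CommRingCat.of ↑(S.residueField (s y)))) :=
    MorphismProperty.pullback_snd (P := @IsProper) f _ inferInstance
  exact Groth.L21.RR.genus_bc (k := ↑(S.residueField (s y))) (K := ↑(S'.residueField y)) l sql

/-- Families of curves are stable under base change. -/
theorem CurveFam.of_isPullback (h : CurveFam g f) (sq : IsPullback i f' f s) : CurveFam g f' := by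
  obtain ⟨hp, hs, hc, hd, hg⟩ := h
  exact ⟨MorphismProperty.of_isPullback (P := @IsProper) sq hp,
    MorphismProperty.of_isPullback (P := @Smooth) sq hs,
    MorphismProperty.of_isPullback (P := @GeometricallyConnected) sq hc,
    fun y => (Groth.Agent.S9777.result f s f' i sq y).trans (hd _),
    fun y => (genus_fiber_of_isPullback sq y).trans (hg _)⟩

theorem CurveFam.pullback_snd (h : CurveFam g f) (s : S' ⟶ S) : CurveFam g (pullback.snd f s) :=
  h.of_isPullback (IsPullback.of_hasPullback f s)

/-- Geometric connectedness descends along surjective morphisms. -/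
theorem geometricallyConnected_of_surjective [Surjective s] [GeometricallyConnected f']
    (sq : IsPullback i f' f s) : GeometricallyConnected f := by
  refine ⟨fun K _ y Z fst snd hZ => ?_⟩
  haveI : Surjective (pullback.snd s y) := MorphismProperty.pullback_snd _ _ inferInstance
  obtain ⟨r, -⟩ := (pullback.snd s y).surjective (IsLocalRing.closedPoint K : Spec (CommRingCat.of K))
  let R := pullback s y
  let ℓ : Spec (R.residueField r) ⟶ R := R.fromSpecResidueField r
  haveI : Subsingleton (Spec (CommRingCat.of K)) := inferInstanceAs (Subsingleton (PrimeSpectrum K))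
  haveI : Surjective (ℓ ≫ pullback.snd s y) :=
    ⟨fun x => ⟨IsLocalRing.closedPoint (R.residueField r), Subsingleton.elim _ _⟩⟩
  haveI : Surjective (pullback.fst snd (ℓ ≫ pullback.snd s y)) :=
    MorphismProperty.pullback_fst _ _ inferInstance
  have h1 := (IsPullback.of_hasPullback snd (ℓ ≫ pullback.snd s y)).paste_horiz hZ
  have hw : (ℓ ≫ pullback.snd s y) ≫ y = (ℓ ≫ pullback.fst s y) ≫ s := by
    rw [Category.assoc, Category.assoc, pullback.condition]
  rw [hw] at h1
  let m : pullback snd (ℓ ≫ pullback.snd s y) ⟶ X' :=
    sq.lift (pullback.fst _ _ ≫ fst) (pullback.snd _ _ ≫ ℓ ≫ pullback.fst s y) (by simpa using h1.w)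
  have h2 : IsPullback m (pullback.snd snd (ℓ ≫ pullback.snd s y)) f' (ℓ ≫ pullback.fst s y) := by
    refine IsPullback.of_right ?_ (sq.lift_snd _ _ _) sq
    rw [sq.lift_fst]
    exact h1
  haveI := GeometricallyConnected.geometrically_connectedSpace (f := f') (ℓ ≫ pullback.fst s y) _ _ h2
  exact (pullback.fst snd (ℓ ≫ pullback.snd s y)).surjective.connectedSpace
    (pullback.fst snd (ℓ ≫ pullback.snd s y)).continuous

/-- Families of curves descend along fppf coverings. -/
theorem CurveFam.of_descent (h : CurveFam g f') [Flat s] [Surjective s] [LocallyOfFinitePresentation s]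
    (sq : IsPullback i f' f s) : CurveFam g f := by
  obtain ⟨hp, hs, hc, hd, hg⟩ := h
  haveI := Groth.Agent.S0086.result.{u}
  have hz : (@Surjective ⊓ @Flat ⊓ @LocallyOfFinitePresentation : MorphismProperty Scheme.{u}) s :=
    ⟨⟨inferInstance, inferInstance⟩, inferInstance⟩
  haveI : IsProper f :=
    MorphismProperty.of_isPullback_of_descendsAlong (P := @IsProper) sq.flip hz hp
  have hs' : Smooth f := MorphismProperty.of_isPullback_of_descendsAlong (P := @Smooth) sq.flip hz hs
  refine ⟨inferInstance, hs', geometricallyConnected_of_surjective sq, fun y => ?_, fun y => ?_⟩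
  · obtain ⟨t, rfl⟩ := s.surjective y
    exact (Groth.Agent.S9777.result f s f' i sq t).symm.trans (hd t)
  · obtain ⟨t, rfl⟩ := s.surjective y
    exact (genus_fiber_of_isPullback sq t).symm.trans (hg t)

end Groth.L21.CurveDesc
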