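import Groth.Agent.L21.CurveDesc.Fam
import Groth.Agent.L12.CurveFam.CurveAmple
import Groth.Agent.L08.Cube.Inverse
import Groth.Agent.L21.Duality.Deg

/-!
# A relatively ample line bundle on a family of curves of genus different from one
-/

set_option autoImplicit false
set_option linter.style.haveILetI false
set_option linter.unusedSectionVars false
set_option backward.isDefEq.respectTransparency false
set_option backward.isDefEq.respectTransparency.types false
set_option synthInstance.maxHeartbeats 400000

universe u

open CategoryTheory CategoryTheory.Limits AlgebraicGeometry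

noncomputable section

namespace Groth.L21.CurveDesc

variable {g : ℕ} {X S : Scheme.{u}} {f : X ⟶ S}

/-- The differentials in genus at least two and their dual in genus zero are relatively ample. -/
theorem CurveFam.exists_isRelAmple (h : CurveFam g f) (hg : g ≠ 1) :
    ∃ L : X.Modules, RelAmple.IsRelAmple f L := by
  obtain ⟨hp, hs, hc, hd, hgen⟩ := h
  haveI : Flat f := inferInstance
  haveI : LocallyOfFinitePresentation f := inferInstance
  have hconn : ∀ s : S, ConnectedSpace ↥(f.fiber s) := fun s => inferInstance
  have hΩ := Groth.L12.CurveFam.isInvertible_omega_of_dim f hconn hd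
  have hO : ∀ (s : S) (p : ℕ), letI : (f.fiber s).Over (Spec (CommRingCat.of (S.residueField s))) :=
      ⟨f.fiberToSpecResidueField s⟩
      CohIII.fiberRank f (Coh.structureModule X) p s =
        Groth.L21.RR.h (S.residueField s) p (Coh.structureModule (f.fiber s)) := fun s p => by
    letI : (f.fiber s).Over (Spec (CommRingCat.of (S.residueField s))) := ⟨f.fiberToSpecResidueField s⟩
    exact Groth.L21.RR.h_congr (S.residueField s) (Groth.L29.LocFree.pullbackUnitIso (f.fiberι s)) p
  have hh0 : ∀ s : S, letI : (f.fiber s).Over (Spec (CommRingCat.of (S.residueField s))) :=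
      ⟨f.fiberToSpecResidueField s⟩
      Groth.L21.RR.h (S.residueField s) 0 (Coh.structureModule (f.fiber s)) = 1 := fun s => by
    let j : f.fiber s ⟶ Spec (CommRingCat.of (S.residueField s)) := f.fiberToSpecResidueField s
    haveI : Smooth j := inferInstanceAs (Smooth (pullback.snd f _))
    haveI : IsProper j := inferInstanceAs (IsProper (pullback.snd f _))
    haveI : GeometricallyConnected j := inferInstanceAs (GeometricallyConnected (pullback.snd f _))
    haveI := Groth.Agent.AV.geometricallyReduced_of_smooth j
    exact Groth.L08.Cube.finrank_HH_zero_structure j (Groth.L08.Cube.bijective_toGlobal_of_geometric j)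
  rcases Nat.eq_zero_or_pos g with rfl | hpos
  · obtain ⟨N, hN, ⟨e⟩⟩ := Groth.L08.Cube.exists_inverse hΩ
    refine ⟨N, Groth.L12.CurveFam.isRelAmple_of_fibres f N hN fun s => ?_⟩
    letI : (f.fiber s).Over (Spec (CommRingCat.of (S.residueField s))) := ⟨f.fiberToSpecResidueField s⟩
    haveI : IsProper (f.fiber s ↘ Spec (CommRingCat.of (S.residueField s))) :=
      inferInstanceAs (IsProper (pullback.snd f _))
    haveI : Smooth (f.fiber s ↘ Spec (CommRingCat.of (S.residueField s))) :=
      inferInstanceAs (Smooth (pullback.snd f _))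
    haveI := Groth.L12.CurveFam.isIntegral_fiber f s
    haveI := Groth.L21.RR.isNoetherian_of_proper (X := f.fiber s) (S.residueField s)
    obtain ⟨eo⟩ := Groth.L12.CurveFam.nonempty_fiber_omega_iso f s
    have hNs := Groth.L18.Ample.isInvertible_pullback (f.fiberι s) hN
    have hΩs := Groth.L18.Ample.isInvertible_pullback (f.fiberι s) hΩ
    refine Groth.L12.CurveFam.isAmple_of_euler_lt (S.residueField s) (hd s) hNs ?_
    have h1 := Groth.L21.Duality.deg_tensor (k := S.residueField s) (hd s) hΩs hNs
    have e1 := Groth.L29.DC.PullTensor.pullTensor (f.fiberι s) (Omega.sheaf f) N ≪≫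
      (Scheme.Modules.pullback (f.fiberι s)).mapIso e ≪≫ Groth.L29.LocFree.pullbackUnitIso (f.fiberι s)
    have h2 := (Groth.L21.Duality.omega_invariants (k := S.residueField s) (X := f.fiber s) (hd s)).2.2 (hh0 s)
    have h3 : Curv2.genus (S.residueField s) (f.fiber s) = 0 := hgen s
    rw [h3] at h2
    have hz : ∀ p, Groth.L21.RR.h (S.residueField s) p ((Scheme.Modules.pullback (f.fiberι s)).obj (Omega.sheaf f)) =
        Groth.L21.RR.h (S.residueField s) p
          (Omega.sheaf (f.fiber s ↘ Spec (CommRingCat.of (S.residueField s)))) := fun p =>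
      Groth.L21.RR.h_congr (S.residueField s) eo p
    simp only [Curv2.deg, Groth.L21.RR.euler_eq (S.residueField s) (hd s).le] at h1 h2 ⊢
    rw [Groth.L21.RR.h_congr (S.residueField s) e1 0, Groth.L21.RR.h_congr (S.residueField s) e1 1,
      hz 0, hz 1] at h1
    change _ = 2 * ((0 : ℕ) : ℤ) - 2 at h2
    push_cast at h1 h2
    omega
  · refine ⟨Omega.sheaf f, Groth.L12.CurveFam.isRelAmple_of_fibres f _ hΩ fun s =>
      Groth.L12.CurveFam.isAmple_fiber_omega f s (hd s) hΩ ?_⟩
    rw [hO s 0, hO s 1, hh0 s]
    have h3 : (letI : (f.fiber s).Over (Spec (CommRingCat.of (S.residueField s))) :=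
      ⟨f.fiberToSpecResidueField s⟩
      Groth.L21.RR.h (S.residueField s) 1 (Coh.structureModule (f.fiber s))) = g := hgen s
    rw [h3]
    omega

end Groth.L21.CurveDesc
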