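import Groth.Agent.L20.SchDesc.AffineReduce
import Groth.Agent.L20.SchDesc.Props
import Groth.Agent.L20.SchDesc.Hull
import Groth.Agent.L20.SchDesc.Fppf

/-!
# Effectivity along a composite whose first factor is an fppf covering

The argument of `L23/SepEt/Compose` without the hypotheses on the morphism of the datum.
-/

set_option autoImplicit false
set_option linter.style.haveILetI false
set_option linter.unusedSectionVars false
set_option backward.isDefEq.respectTransparency.types false

universe u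

open CategoryTheory Limits AlgebraicGeometry Groth.L20.SchDesc

namespace Groth.L21.CurveDesc

variable {T P₀ S V : Scheme.{u}} {z : T ⟶ P₀} {k : P₀ ⟶ S} {f : V ⟶ T}

/-- The datum relative to the first factor of a composite. -/
def firstFactor (P : Pre (z ≫ k) f) : Pre z f where
  act v x h := P.act v x (by rw [reassoc_of% h])
  hom v x h := P.hom _ _ _
  natural g v x h h' := P.natural g v x _ _
  self v h := P.self v _
  comp v x y h h' h'' := P.comp v x y _ _ _

/-- A datum relative to `z ≫ k`, `z` an fppf covering, is effective if its restriction to `z` is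
effective and every datum relative to `k` on the scheme descended along `z` is. -/
theorem effective_comp [Flat z] [Surjective z] [LocallyOfFinitePresentation z]
    (P : Pre (z ≫ k) f) (d : Descent (firstFactor P)) (hk : ∀ Q : Pre k d.a, Effective Q) :
    Effective P := by
  let W := d.U
  let b : W ⟶ P₀ := d.a
  let q : V ⟶ W := d.q
  have hsq : IsPullback f q z b := d.isPullback
  haveI : Flat q := MorphismProperty.of_isPullback (P := @Flat) hsq inferInstance
  haveI : Surjective q := MorphismProperty.of_isPullback (P := @Surjective) hsq inferInstance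
  haveI : LocallyOfFinitePresentation q := MorphismProperty.of_isPullback (P := @LocallyOfFinitePresentation) hsq inferInstance
  haveI : Cov q := Cov.of_lfp
  haveI := Cov.epi q
  -- points upstairs
  have hw : f ≫ z = q ≫ b := hsq.w
  have e₁ : f ≫ z ≫ k = q ≫ b ≫ k := by rw [reassoc_of% hw]
  let π : Pairs (z ≫ k) f ⟶ Pairs k b :=
    pullback.map (f ≫ z ≫ k) (z ≫ k) (b ≫ k) k q z (𝟙 _) ((Category.comp_id _).trans e₁)
      (Category.comp_id _)
  haveI : Flat π := MorphismProperty.pullbackMap (P := @Flat) ‹Flat q› ‹Flat z› e₁ rfl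
  haveI : Surjective π := MorphismProperty.pullbackMap (P := @Surjective) ‹Surjective q› ‹Surjective z› e₁ rfl
  haveI : LocallyOfFinitePresentation π :=
    MorphismProperty.pullbackMap (P := @LocallyOfFinitePresentation) ‹LocallyOfFinitePresentation q› ‹LocallyOfFinitePresentation z› e₁ rfl
  haveI : Cov π := Cov.of_lfp
  haveI := Cov.epi π
  have hπ₁ : π ≫ src k b = src (z ≫ k) f ≫ q := pullback.lift_fst _ _ _
  have hπ₂ : π ≫ pt k b = pt (z ≫ k) f ≫ z := pullback.lift_snd _ _ _
  have hconst : ∀ {R : Scheme.{u}} (v v' : R ⟶ V) (x x' : R ⟶ T) (h : v ≫ f ≫ z ≫ k = x ≫ z ≫ k)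
      (h' : v' ≫ f ≫ z ≫ k = x' ≫ z ≫ k), v ≫ q = v' ≫ q → x ≫ z = x' ≫ z →
      P.act v x h ≫ q = P.act v' x' h' ≫ q := by
    intro R v v' x x' h h' hv hx
    have c₀ : v ≫ f ≫ z = (v' ≫ f) ≫ z := by rw [Category.assoc, hw, ← Category.assoc, hv, Category.assoc]
    have hv' : P.act v (v' ≫ f) (by rw [reassoc_of% c₀]; simp) = v' := d.act_eq v v' hv c₀
    have c₁ : v ≫ f ≫ z ≫ k = x' ≫ z ≫ k := by rw [h, reassoc_of% hx]
    have c₂ : P.act v x h ≫ f ≫ z = x' ≫ z := by rw [← Category.assoc, P.hom, hx]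
    have k₁ : P.act v' x' h' = P.act v x' c₁ :=
      ((P.act_congr hv'.symm rfl h' (by rw [hv']; exact h')).trans (P.comp _ _ _ _ _ c₁))
    have k₂ : P.act v x' c₁ = (firstFactor P).act (P.act v x h) x' c₂ :=
      (P.comp v x x' h _ c₁).symm
    rw [k₁, k₂]
    exact (d.comm _ _ c₂).symm
  have hkey : ∀ {R : Scheme.{u}} (g₁ g₂ : R ⟶ Pairs (z ≫ k) f), g₁ ≫ π = g₂ ≫ π →
      g₁ ≫ P.map ≫ q = g₂ ≫ P.map ≫ q := by
    intro R g₁ g₂ e
    have hc : ∀ g : R ⟶ Pairs (z ≫ k) f, (g ≫ src (z ≫ k) f) ≫ f ≫ z ≫ k = (g ≫ pt (z ≫ k) f) ≫ z ≫ k :=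
      fun g => by rw [Category.assoc, pairs_cond, Category.assoc]
    rw [← Category.assoc, ← Category.assoc, P.natural' g₁ _ _ pairs_cond (hc g₁) rfl rfl,
      P.natural' g₂ _ _ pairs_cond (hc g₂) rfl rfl]
    refine hconst _ _ _ _ _ _ ?_ ?_
    · simpa only [Category.assoc, hπ₁] using congrArg (· ≫ src k b) e
    · simpa only [Category.assoc, hπ₂] using congrArg (· ≫ pt k b) e
  obtain ⟨t, ht⟩ := Cov.exists_desc (p := π) (P.map ≫ q) hkey
  have htb : t ≫ b = pt k b := by
    rw [← cancel_epi π, reassoc_of% ht, hπ₂, ← hw]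
    exact (Category.assoc _ _ _).symm.trans (congrArg (· ≫ z) P.map_f)
  have hlift : ∀ {R : Scheme.{u}} (v : R ⟶ V) (x : R ⟶ T) (h : v ≫ f ≫ z ≫ k = x ≫ z ≫ k)
      (h' : (v ≫ q) ≫ b ≫ k = (x ≫ z) ≫ k),
      pullback.lift (v ≫ q) (x ≫ z) h' ≫ t = P.act v x h ≫ q := by
    intro R v x h h'
    have : pullback.lift (v ≫ q) (x ≫ z) h' = pullback.lift v x h ≫ π := by
      apply pullback.hom_ext
      · rw [pullback.lift_fst, Category.assoc, hπ₁, pullback.lift_fst_assoc]
      · rw [pullback.lift_snd, Category.assoc, hπ₂, pullback.lift_snd_assoc]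
    rw [this, Category.assoc, ht, ← Category.assoc]
    exact congrArg (· ≫ q) (P.act_eq_map v x h).symm
  let Q : Pre k b := Pre.ofMap t htb (by
      rw [← cancel_epi q, Category.comp_id, ← Category.assoc]
      have c : 𝟙 V ≫ f ≫ z ≫ k = f ≫ z ≫ k := Category.id_comp _
      have h' : (𝟙 V ≫ q) ≫ b ≫ k = (f ≫ z) ≫ k := by rw [Category.id_comp, Category.assoc, e₁]
      have : q ≫ pullback.lift (f := b ≫ k) (g := k) (𝟙 W) b (Category.id_comp _) =
          pullback.lift (𝟙 V ≫ q) (f ≫ z) h' := by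
        apply pullback.hom_ext
        · rw [Category.assoc, pullback.lift_fst, pullback.lift_fst, Category.comp_id, Category.id_comp]
        · rw [Category.assoc, pullback.lift_snd, pullback.lift_snd, hw]
      rw [this, hlift (𝟙 V) f c h']
      have hs := (P.act_congr rfl (Category.id_comp f).symm c (Category.assoc _ _ _).symm).trans
        (P.self (𝟙 V) (Category.assoc _ _ _).symm)
      rw [hs, Category.id_comp])
    (by
      let π₃ : Triples (z ≫ k) f ⟶ Triples k b :=
        pullback.map _ _ _ _ π z (𝟙 _)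
          (by rw [Category.comp_id, reassoc_of% hπ₁, e₁]) (Category.comp_id _)
      have e₃ : src (z ≫ k) f ≫ f ≫ z ≫ k = π ≫ src k b ≫ b ≫ k := by rw [reassoc_of% hπ₁, e₁]
      haveI : Flat π₃ := MorphismProperty.pullbackMap (P := @Flat) ‹Flat π› ‹Flat z› e₃ rfl
      haveI : Surjective π₃ :=
        MorphismProperty.pullbackMap (P := @Surjective) ‹Surjective π› ‹Surjective z› e₃ rfl
      haveI : Epi π₃ := Flat.epi_of_flat_of_surjective π₃
      have hp : π₃ ≫ proj k b = proj (z ≫ k) f ≫ π := pullback.lift_fst _ _ _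
      have hl : π₃ ≫ last k b = last (z ≫ k) f ≫ z := pullback.lift_snd _ _ _
      let v := proj (z ≫ k) f ≫ src (z ≫ k) f
      let x := proj (z ≫ k) f ≫ pt (z ≫ k) f
      let x' := last (z ≫ k) f
      have c₁ : v ≫ f ≫ z ≫ k = x ≫ z ≫ k := by
        simp only [v, x, Category.assoc]
        exact congrArg (proj (z ≫ k) f ≫ ·) pairs_cond
      have c₃ : v ≫ f ≫ z ≫ k = x' ≫ z ≫ k := triples_cond
      have c₂ : P.act v x c₁ ≫ f ≫ z ≫ k = x' ≫ z ≫ k := by rw [P.hom_p, ← c₁, c₃]
      have hPm : proj (z ≫ k) f ≫ P.map = P.act v x c₁ := P.natural' _ _ _ pairs_cond c₁ rfl rfl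
      have d₂ : (P.act v x c₁ ≫ q) ≫ b ≫ k = (x' ≫ z) ≫ k := by
        rw [Category.assoc, ← e₁, Category.assoc, c₂]
      have d₃ : (v ≫ q) ≫ b ≫ k = (x' ≫ z) ≫ k :=
        (Category.assoc v _ _).trans ((congrArg (v ≫ ·) e₁.symm).trans (c₃.trans (Category.assoc _ _ _).symm))
      rw [← cancel_epi π₃, ← Category.assoc, ← Category.assoc]
      have l₁ : π₃ ≫ pullback.lift (f := b ≫ k) (g := k) (proj k b ≫ t) (last k b) (triples_cond' t htb) =
          pullback.lift (P.act v x c₁ ≫ q) (x' ≫ z) d₂ := by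
        apply pullback.hom_ext
        · rw [Category.assoc, pullback.lift_fst, reassoc_of% hp, ht, reassoc_of% hPm, pullback.lift_fst]
        · rw [Category.assoc, pullback.lift_snd, hl, pullback.lift_snd]
      have l₂ : π₃ ≫ pullback.lift (f := b ≫ k) (g := k) (proj k b ≫ src k b) (last k b) triples_cond =
          pullback.lift (v ≫ q) (x' ≫ z) d₃ := by
        apply pullback.hom_ext
        · rw [Category.assoc, pullback.lift_fst, reassoc_of% hp, hπ₁, pullback.lift_fst]
          simp only [v, Category.assoc]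
        · rw [Category.assoc, pullback.lift_snd, hl, pullback.lift_snd]
      rw [l₁, l₂, hlift _ _ c₂ d₂, hlift _ _ c₃ d₃, P.comp v x x' c₁ c₂ c₃])
  obtain ⟨d'⟩ := hk Q
  refine ⟨⟨d'.U, d'.a, q ≫ d'.q, hsq.paste_vert d'.isPullback, fun {R} v x h => ?_⟩⟩
  have h' : (v ≫ q) ≫ b ≫ k = (x ≫ z) ≫ k := by rw [Category.assoc, ← e₁, h, Category.assoc]
  rw [← Category.assoc, ← hlift v x h h']
  exact (d'.comm (v ≫ q) (x ≫ z) h').trans (Category.assoc _ _ _)

end Groth.L21.CurveDesc
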