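import Groth.Agent.L21.CurveDesc.Fam
import Groth.Agent.L02.ConsP.Models
import Groth.Agent.L02.ConsP.PairDescends
import Groth.Agent.L19.Limit.Smooth
import Groth.Agent.L06.FibreModel
import Groth.Agent.L12.CurveFam.R1
import Groth.Agent.L10.ModRDer

/-!
# Models of families of curves over finitely generated `ℤ`-algebras
-/

set_option autoImplicit false
set_option linter.style.haveILetI false
set_option backward.isDefEq.respectTransparency false
set_option backward.isDefEq.respectTransparency.types false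

universe u

open CategoryTheory CategoryTheory.Limits AlgebraicGeometry Opposite
open Groth.L19.Limit

noncomputable section

namespace Groth.L21.CurveDesc

/-- The genus of the fibres of a proper smooth geometrically connected family of curves is locally constant. -/
theorem isLocallyConstant_fiber_genus {X S : Scheme.{u}} (f : X ⟶ S) [IsProper f] [Smooth f]
    [GeometricallyConnected f] (hd : ∀ s : S, topologicalKrullDim ↥(f.fiber s) ≤ 1) :
    IsLocallyConstant fun s : S => (letI : (f.fiber s).Over (Spec (S.residueField s)) := ⟨f.fiberToSpecResidueField s⟩;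
      Curv2.genus (S.residueField s) (f.fiber s)) := by
  haveI : EnoughInjectives X.Modules := (Groth.L10.ModRDer.insts X.sheaf).1
  haveI : Coh.IsQCoh (Coh.structureModule X) := Groth.L29.DC.PCQCoh.isQCoh_of_isFinLocFree
    (Groth.L16.Existence.isFinLocFree_of_isInvertible (Groth.L18.Ample.isInvertible_structureModule _))
  haveI := Groth.L17.PushQCoh.isQCoh_Rpush f (Coh.structureModule X) 1
  refine (IsLocallyConstant.iff_exists_open _).mpr fun y => ?_
  obtain ⟨U, n, hy, ⟨i⟩, hn⟩ :=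
    Groth.L12.CurveFam.exists_free_Rpush_one f (Groth.L12.CurveFam.isIso_fiber_app f) hd y
  refine ⟨U, U.isOpen, hy, fun z hz => ?_⟩
  obtain ⟨U', n', hz', ⟨i'⟩, hn'⟩ :=
    Groth.L12.CurveFam.exists_free_Rpush_one f (Groth.L12.CurveFam.isIso_fiber_app f) hd z
  obtain ⟨_, ⟨W, hW, rfl⟩, hzW, hWU⟩ :=
    S.isBasis_affineOpens.exists_subset_of_mem_open (show z ∈ U ⊓ U' from ⟨hz, hz'⟩) (U ⊓ U').isOpen
  have h1 := Groth.L17.BC.Classes.mu_eq_of_restrict _ hW (fun w hw => (hWU hw).1) i (hW.primeIdealOf ⟨z, hzW⟩)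
  have h2 := Groth.L17.BC.Classes.mu_eq_of_restrict _ hW (fun w hw => (hWU hw).2) i' (hW.primeIdealOf ⟨z, hzW⟩)
  simp only [← Groth.L12.CurveFam.fiberRank_one_eq_genus f]
  rw [hn, hn', ← h1, h2]

variable {A : Type u} [CommRing A]

/-- A model of a family of curves over a finitely generated subring. -/
theorem exists_model_curveFam {X : Scheme.{u}} (f : X ⟶ Spec (CommRingCat.of A)) {g : ℕ} (h : CurveFam g f) :
    ∃ A₂ : Subalgebra ℤ A, A₂.FG ∧
      ∃ (X₂ : Scheme.{u}) (f₂ : X₂ ⟶ Spec (CommRingCat.of ↥A₂)) (v : X ⟶ X₂),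
        IsPullback v f f₂ (Spec.map (CommRingCat.ofHom (algebraMap (↥A₂) A))) ∧ CurveFam g f₂ := by
  obtain ⟨hp, hs, hc, hd, hg⟩ := h
  haveI := hp; haveI := hs; haveI := hc
  obtain ⟨A₀, hA₀, X₀, f₀, v₀, hqc, hqs, hlfp, sq₀⟩ := L02.ConsP.exists_model f
  haveI := hqc; haveI := hqs; haveI := hlfp
  let D := Groth.L05.ModelFG.specDiagram A
  let i : (Groth.L05.ModelFG.FG A)ᵒᵖ := op ⟨A₀, hA₀⟩
  let a : X₀ ⟶ D.obj i := f₀
  haveI : CompactSpace (D.obj i) := inferInstanceAs (CompactSpace (Spec _))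
  have ha : qcqsfp a := ⟨⟨hqc, hqs⟩, hlfp⟩
  have sqc : IsPullback v₀ (show X ⟶ (Groth.L05.ModelFG.specCone A).pt from f) a
      ((Groth.L05.ModelFG.specCone A).π.app i) := sq₀
  obtain ⟨jp, φp, hjp⟩ := L02.ConsP.descends_isProper (Groth.L05.ModelFG.isLimitSpecCone A) a ha
    ((pb_iff_of_isPullback (P := @IsProper) sqc).mp hp)
  obtain ⟨js, φs, hjs⟩ := descends_smooth (Groth.L05.ModelFG.isLimitSpecCone A) a ha
    ((pb_iff_of_isPullback (P := @Smooth) sqc).mp hs)
  let A₁ : Subalgebra ℤ A := jp.unop.1 ⊔ js.unop.1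
  have hle : A₀ ≤ A₁ := le_trans (show A₀ ≤ jp.unop.1 from φp.unop.le) le_sup_left
  have hA₁ : A₁.FG := jp.unop.2.sup js.unop.2
  obtain ⟨X₁, f₁, v₁, h₁, -, -, -, sq₁, sqh, -⟩ := L02.ConsP.exists_stage hle f f₀ v₀ sq₀
  let j : (Groth.L05.ModelFG.FG A)ᵒᵖ := op ⟨A₁, hA₁⟩
  let ψp : j ⟶ jp := (homOfLE (show jp.unop ≤ ⟨A₁, hA₁⟩ from (le_sup_left : jp.unop.1 ≤ A₁))).op
  let ψs : j ⟶ js := (homOfLE (show js.unop ≤ ⟨A₁, hA₁⟩ from (le_sup_right : js.unop.1 ≤ A₁))).op
  haveI hp₁ : IsProper f₁ := by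
    refine (pb_iff_of_isPullback (P := @IsProper) (a := a) (p := (show X₁ ⟶ D.obj j from f₁))
      (g := D.map (ψp ≫ φp)) sqh).mpr ?_
    rw [D.map_comp]
    exact pb_comp _ hjp
  haveI hs₁ : Smooth f₁ := by
    refine (pb_iff_of_isPullback (P := @Smooth) (a := a) (p := (show X₁ ⟶ D.obj j from f₁))
      (g := D.map (ψs ≫ φs)) sqh).mpr ?_
    rw [D.map_comp]
    exact pb_comp _ hjs
  -- fibres of dimension one, geometrically connected
  let E : Set (PrimeSpectrum A₁) :=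
    {y | topologicalKrullDim ↥(f₁.fiber y) = 1} ∩ {y | MoreMor.nGeomConnComp f₁ y = 1}
  have hE : Topology.IsConstructible E :=
    (Groth.L06.FibreDimCons.isLocallyConstructible_fibre_eq f₁ 1).isConstructible.inter
      (Groth.L07.Count.isLocallyConstructible_nPair f₁ {p | p.1 = 1}).isConstructible
  obtain ⟨A₂, hle₂, hA₂, hA₂E⟩ := Groth.L06.FibreModel.exists_stage A₁ hA₁ E hE fun p =>
    ⟨(Groth.L06.FibreModel.topologicalKrullDim_fiber_eq f₁ _ f v₁ sq₁ p).symm.trans (hd p),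
      (Groth.L07.Count.nGeomConnComp_of_isPullback f₁ sq₁ p).symm.trans
        ((Groth.L07.Count.geometricallyConnected_fiber_iff f p).1
          ((GeometricallyConnected.iff_geometricallyConnected_fiber f).1 hc p))⟩
  obtain ⟨X₂, f₂, v₂, h₂, -, -, -, sq₂, sqh₂, -⟩ := L02.ConsP.exists_stage hle₂ f f₁ v₁ sq₁
  haveI hp₂ : IsProper f₂ := MorphismProperty.of_isPullback sqh₂ hp₁
  haveI hs₂ : Smooth f₂ := MorphismProperty.of_isPullback sqh₂ hs₁
  have hd₂ : ∀ s, topologicalKrullDim ↥(f₂.fiber s) = 1 := fun s =>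
    (Groth.L06.FibreModel.topologicalKrullDim_fiber_eq f₁ _ f₂ h₂ sqh₂ s).trans (hA₂E s).1
  haveI hc₂ : GeometricallyConnected f₂ :=
    (GeometricallyConnected.iff_geometricallyConnected_fiber f₂).2 fun s =>
      (Groth.L07.Count.geometricallyConnected_fiber_iff f₂ s).2
        ((Groth.L07.Count.nGeomConnComp_of_isPullback f₁ sqh₂ s).trans (hA₂E s).2)
  -- the genus
  haveI : IsNoetherianRing A₂ := L02.ConsP.isNoetherianRing_of_fg hA₂
  have hlc := isLocallyConstant_fiber_genus f₂ fun s => (hd₂ s).le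
  let G : Set (PrimeSpectrum A₂) := {y | (letI : (f₂.fiber y).Over (Spec ((Spec (CommRingCat.of ↥A₂)).residueField y)) :=
      ⟨f₂.fiberToSpecResidueField y⟩; Curv2.genus ((Spec (CommRingCat.of ↥A₂)).residueField y) (f₂.fiber y)) = g}
  have hG : Topology.IsConstructible G := by
    have hco : IsClopen G := ⟨hlc.isClosed_fiber g, hlc.isOpen_fiber g⟩
    exact hco.isClosed.isCompact.isConstructible hco.isOpen
  obtain ⟨A₃, hle₃, hA₃, hA₃G⟩ := Groth.L06.FibreModel.exists_stage A₂ hA₂ G hG fun p =>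
    (genus_fiber_of_isPullback sq₂ p).symm.trans (hg p)
  obtain ⟨X₃, f₃, v₃, h₃, -, -, -, sq₃, sqh₃, -⟩ := L02.ConsP.exists_stage hle₃ f f₂ v₂ sq₂
  refine ⟨A₃, hA₃, X₃, f₃, v₃, sq₃, MorphismProperty.of_isPullback sqh₃ hp₂,
    MorphismProperty.of_isPullback sqh₃ hs₂, MorphismProperty.of_isPullback sqh₃ hc₂,
    fun s => (Groth.L06.FibreModel.topologicalKrullDim_fiber_eq f₂ _ f₃ h₃ sqh₃ s).trans (hd₂ _), fun s => ?_⟩
  exact (genus_fiber_of_isPullback sqh₃ s).trans (hA₃G s)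

end Groth.L21.CurveDesc
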