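import Groth.Agent.L21.CurveDesc.Ample
import Groth.Agent.L21.CurveDesc.Comp
import Groth.Agent.L20.SchDesc.Chart
import Groth.Agent.L20.SchDesc.Sigma
import Groth.Agent.S7198
import Groth.Agent.S7521

/-!
# Fppf descent data on families of curves of genus different from one are effective
-/

set_option autoImplicit false
set_option linter.style.haveILetI false
set_option linter.unusedSectionVars false
set_option backward.isDefEq.respectTransparency false
set_option backward.isDefEq.respectTransparency.types false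
set_option synthInstance.maxHeartbeats 400000

universe u

open CategoryTheory CategoryTheory.Limits AlgebraicGeometry Groth.L20.SchDesc

noncomputable section

namespace Groth.L21.CurveDesc

variable {g : ℕ} {X S V : Scheme.{u}} {p : X ⟶ S} {f : V ⟶ X}

/-- Descent along a finite locally free covering. -/
theorem effective_of_finLocFree [IsFinite p] [Flat p] [Surjective p] [LocallyOfFinitePresentation p]
    (hg : g ≠ 1) (h : CurveFam g f) (P : Pre p f) : Effective P := by
  obtain ⟨L, hL⟩ := h.exists_isRelAmple hg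
  obtain ⟨W, ⟨e⟩⟩ := Groth.Agent.S7521.result p (toSchDD P) L hL
  exact effective_of_toSchDD P (effective_of_iso _ e)

/-- The preimage of an open of the base is stable. -/
theorem stable_preimage (P : Pre p f) (W : S.Opens) : Stable P (f ⁻¹ᵁ p ⁻¹ᵁ W) := by
  intro T w x e hw
  rintro _ ⟨t, rfl⟩
  show p (f (P.act w x e t)) ∈ W
  have h1 : (P.act w x e ≫ f ≫ p) t = (w ≫ f ≫ p) t := by rw [P.hom_p, e]
  simp only [Scheme.Hom.comp_apply] at h1
  rw [h1]
  exact hw ⟨t, rfl⟩

/-- Effectivity is local on the base. -/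
theorem effective_of_local [Cov p] (P : Pre p f)
    (h : ∀ s : S, ∃ W : S.Opens, s ∈ W ∧ ∀ Q : Pre (p ∣_ W) (f ∣_ p ⁻¹ᵁ W), Effective Q) :
    Effective P := by
  refine effective_of_cover P fun v => ?_
  obtain ⟨W, hv, hW⟩ := h (p (f v))
  exact ⟨f ⁻¹ᵁ p ⁻¹ᵁ W, hv, stable_preimage P W,
    effective_of_ofBase _ (isPullback_morphismRestrict p W).flip (f' := f ∣_ p ⁻¹ᵁ W)
      (morphismRestrict_ι f _) (hW _)⟩

/-- Descent along a covering which locally on the base is dominated by a finite locally free one. -/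
theorem effective_of_locally_finLocFree [Cov p] (hg : g ≠ 1) (h : CurveFam g f) (P : Pre p f)
    (hp : ∀ s : S, ∃ (W : S.Opens) (T : Scheme.{u}) (j : T ⟶ X) (ρ : T ⟶ W.toScheme),
      s ∈ W ∧ Mor2.IsFinLocFree ρ ∧ Surjective ρ ∧ j ≫ p = ρ ≫ W.ι) : Effective P := by
  refine effective_of_local P fun s => ?_
  obtain ⟨W, T, j, ρ, hs, ⟨hρ₁, hρ₂, hρ₃⟩, hρ₄, he⟩ := hp s
  refine ⟨W, hs, fun Q => ?_⟩
  let j' : T ⟶ p ⁻¹ᵁ W := IsOpenImmersion.lift (p ⁻¹ᵁ W).ι j (by
    rw [Scheme.Opens.range_ι]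
    rintro _ ⟨t, rfl⟩
    show p (j t) ∈ W
    rw [← Scheme.Hom.comp_apply, he]
    exact (ρ t).2)
  have hj : j' ≫ (p ∣_ W) = ρ := by
    rw [← cancel_mono W.ι, Category.assoc, morphismRestrict_ι, IsOpenImmersion.lift_fac_assoc, he]
  haveI : IsFinite (j' ≫ (p ∣_ W)) := by rw [hj]; exact hρ₁
  haveI : Flat (j' ≫ (p ∣_ W)) := by rw [hj]; exact hρ₂
  haveI : LocallyOfFinitePresentation (j' ≫ (p ∣_ W)) := by rw [hj]; exact hρ₃
  haveI : Surjective (j' ≫ (p ∣_ W)) := by rw [hj]; exact hρ₄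
  exact effective_of_chart Q j' (effective_of_finLocFree hg
    ((h.of_isPullback (isPullback_morphismRestrict f (p ⁻¹ᵁ W)).flip).pullback_snd j') _)

/-- Fppf descent data on families of curves of genus different from one are effective. -/
theorem effective_of_fppf [Flat p] [Surjective p] [LocallyOfFinitePresentation p] (hg : g ≠ 1)
    (h : CurveFam g f) (P : Pre p f) : Effective P := by
  refine effective_of_local P fun s => ?_
  obtain ⟨U, W, π, hsU, ⟨hπ₁, hπ₂, hπ₃⟩, hπ₄, hW⟩ := Groth.Agent.S7198.result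
    (PreZeroHypercover.singleton.{u} p) (fun _ => inferInstanceAs (Flat p))
    (fun _ => inferInstanceAs (LocallyOfFinitePresentation p))
    (fun s => ⟨PUnit.unit, p.surjective s⟩) s
  refine ⟨U, hsU, fun Q => ?_⟩
  choose W' T ρ i r hw hρ hρs he using hW
  have he' : ∀ w, r w ≫ p = ρ w ≫ (W' w).ι ≫ π ≫ U.ι := he
  let hT : (∐ T) ⟶ p ⁻¹ᵁ U := Sigma.desc fun w => IsOpenImmersion.lift (p ⁻¹ᵁ U).ι (r w) (by
    rw [Scheme.Opens.range_ι]
    rintro _ ⟨t, rfl⟩
    show p (r w t) ∈ U
    rw [show p (r w t) = (ρ w ≫ (W' w).ι ≫ π ≫ U.ι) t from congrArg (fun m => m t) (he' w)]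
    exact (π ((W' w).ι (ρ w t))).2)
  let z : (∐ T) ⟶ W := Sigma.desc fun w => ρ w ≫ (W' w).ι
  have hzπ : hT ≫ (p ∣_ U) = z ≫ π := by
    refine Sigma.hom_ext _ _ fun w => ?_
    rw [← cancel_mono U.ι]
    simp only [Category.assoc, morphismRestrict_ι, hT, z, Sigma.ι_desc_assoc,
      IsOpenImmersion.lift_fac_assoc]
    exact he' w
  haveI : Flat z := IsZariskiLocalAtSource.sigmaDesc fun w => by
    haveI := (hρ w).2.1
    infer_instance
  haveI : LocallyOfFinitePresentation z := IsZariskiLocalAtSource.sigmaDesc fun w => by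
    haveI := (hρ w).2.2
    infer_instance
  haveI : Surjective z := ⟨fun w => by
    obtain ⟨t, ht⟩ := (hρs w).surj ⟨w, hw w⟩
    refine ⟨Sigma.ι T w t, ?_⟩
    rw [← Scheme.Hom.comp_apply, Sigma.ι_desc, Scheme.Hom.comp_apply, ht]
    rfl⟩
  have hVU : CurveFam g (f ∣_ p ⁻¹ᵁ U) := h.of_isPullback (isPullback_morphismRestrict f _).flip
  haveI : Flat (hT ≫ (p ∣_ U)) := by rw [hzπ]; infer_instance
  haveI : Surjective (hT ≫ (p ∣_ U)) := by rw [hzπ]; infer_instance
  haveI : LocallyOfFinitePresentation (hT ≫ (p ∣_ U)) := by rw [hzπ]; infer_instance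
  refine effective_of_chart Q hT ?_
  suffices ∀ (k : (∐ T) ⟶ U.toScheme) (Q' : Pre k (pullback.snd (f ∣_ p ⁻¹ᵁ U) hT)),
      k = z ≫ π → Effective Q' from this _ _ hzπ
  rintro k Q' rfl
  have hV := hVU.pullback_snd hT
  obtain ⟨d⟩ := effective_of_locally_finLocFree hg hV (firstFactor Q') fun w =>
    ⟨W' w, T w, Sigma.ι T w, ρ w, hw w, hρ w, hρs w, Sigma.ι_desc _ _⟩
  exact effective_comp Q' d fun R =>
    effective_of_finLocFree hg (hV.of_descent d.isPullback.flip) R

end Groth.L21.CurveDesc
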